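import Groth.Prelude.Def_AlgGrp
import Groth.Prelude.Def_Red
import Groth.Agent.Fdesc.GrpDimHom
import Groth.Agent.Sga3B.CellDim
import Groth.Agent.Localalg.GrpSchComp2

/-!
# The dimension of a quotient by a non-trivial smooth connected subgroup drops
-/

set_option autoImplicit false
universe u
open CategoryTheory CategoryTheory.Limits MonoidalCategory CartesianMonoidalCategory MonObj GrpObj AlgebraicGeometry
open TopologicalSpace

namespace K405.DimLt

open Groth.Agent Groth.Agent.Fdesc.GrpDimHom

/-- An irreducible `T0` space of dimension zero is a point. -/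
theorem subsingleton_of_dim {X : Type*} [TopologicalSpace X] [T0Space X] [IrreducibleSpace X]
    (h : topologicalKrullDim X = 0) : Subsingleton X := by
  have key : ∀ x : X, closure {x} = (Set.univ : Set X) := by
    intro x
    by_contra hne
    let a : IrreducibleCloseds X := ⟨closure {x}, isIrreducible_singleton.closure, isClosed_closure⟩
    let b : IrreducibleCloseds X := ⟨Set.univ, IrreducibleSpace.isIrreducible_univ X, isClosed_univ⟩
    have hlt : a < b := lt_of_le_of_ne (fun _ _ => trivial) fun hab => hne (congrArg (fun t : IrreducibleCloseds X => (t : Set X)) hab)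
    have h1 : 0 < Order.krullDim (IrreducibleCloseds X) := Order.krullDim_pos_iff.2 ⟨a, b, hlt⟩
    exact h1.ne' h
  refine ⟨fun x y => ?_⟩
  refine Inseparable.eq (Specializes.antisymm ?_ ?_)
  · rw [specializes_iff_mem_closure, key]
    trivial
  · rw [specializes_iff_mem_closure, key]
    trivial

variable {k : Type u} [Field k]

/-- An integral group scheme with one point is trivial. -/
theorem isIso_hom (N : Over (Spec (CommRingCat.of k))) [GrpObj N] [IsReduced N.left] [Subsingleton N.left] :
    IsIso N.hom := by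
  have hs : IsSeparated N.hom := Localalg.GrpSchComp2.isSeparated_hom N
  have h1 : (η[N] : 𝟙_ (Over (Spec (CommRingCat.of k))) ⟶ N).left ≫ N.hom = 𝟙 _ :=
    Over.w (η[N] : 𝟙_ (Over (Spec (CommRingCat.of k))) ⟶ N)
  have h2 : IsClosedImmersion (η[N] : 𝟙_ (Over (Spec (CommRingCat.of k))) ⟶ N).left := by
    have : IsClosedImmersion ((η[N] : 𝟙_ (Over (Spec (CommRingCat.of k))) ⟶ N).left ≫ N.hom) := by
      rw [h1]
      infer_instance
    exact IsClosedImmersion.of_comp _ N.hom
  have h3 : Surjective (η[N] : 𝟙_ (Over (Spec (CommRingCat.of k))) ⟶ N).left :=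
    ⟨fun y => ⟨IsLocalRing.closedPoint k, Subsingleton.elim _ _⟩⟩
  have h4 : IsIso (η[N] : 𝟙_ (Over (Spec (CommRingCat.of k))) ⟶ N).left :=
    isIso_of_isClosedImmersion_of_surjective _
  have h5 : IsIso ((η[N] : 𝟙_ (Over (Spec (CommRingCat.of k))) ⟶ N).left ≫ N.hom) := by
    rw [h1]
    infer_instance
  exact IsIso.of_isIso_comp_left (η[N] : 𝟙_ (Over (Spec (CommRingCat.of k))) ⟶ N).left N.hom

variable [IsAlgClosed k]

/-- A non-trivial smooth connected group scheme has positive dimension. -/
theorem dim_pos (N : Over (Spec (CommRingCat.of k))) [GrpObj N] [Smooth N.hom] [ConnectedSpace ↥N.left]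
    (hN : ¬ Red.IsTrivialGrp N) : ∃ d : ℕ, 0 < d ∧ topologicalKrullDim N.left = d := by
  obtain ⟨d, hd, -⟩ := rtd_eq N
  refine ⟨d, Nat.pos_of_ne_zero ?_, hd⟩
  rintro rfl
  have h1 : IsIntegral N.left := Sga3B.CellDim.isIntegral_of_connected_grp N
  have h2 : Subsingleton N.left := subsingleton_of_dim hd
  exact hN (isIso_hom N)

variable (k)

/-- Dim. dimensions drop -/
theorem dim_lt
    (N G Q : Over (Spec (CommRingCat.of k))) [GrpObj N] [GrpObj G] [GrpObj Q]
    [Smooth N.hom] [QuasiCompact N.hom] [ConnectedSpace ↥N.left]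
    [Smooth G.hom] [QuasiCompact G.hom] [ConnectedSpace ↥G.left]
    [Smooth Q.hom] [QuasiCompact Q.hom] [ConnectedSpace ↥Q.left]
    (i : N ⟶ G) [IsMonHom i] [IsClosedImmersion i.left]
    (π : G ⟶ Q) [IsMonHom π] [Flat π.left] [Surjective π.left] (hker : AlgGrp.IsKernel i π)
    (hN : ¬ Red.IsTrivialGrp N) : topologicalKrullDim Q.left < topologicalKrullDim G.left := by
  obtain ⟨d, hd, hdN⟩ := dim_pos N hN
  obtain ⟨q, hq, -⟩ := rtd_eq Q
  have hr : Set.range π.left = Set.univ := Set.range_eq_univ.2 π.left.surjective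
  have h1 := dim_eq π (by rw [hr]; exact isClosed_univ)
  have h2 : topologicalKrullDim (Set.range π.left) = topologicalKrullDim Q.left := by
    rw [hr]
    exact IsHomeomorph.topologicalKrullDim_eq (Homeomorph.Set.univ Q.left) (Homeomorph.Set.univ Q.left).isHomeomorph
  have h3 : topologicalKrullDim (ker π).left = topologicalKrullDim N.left := by
    have e : IsPullback i.left (toUnit N).left π.left (η[Q] : 𝟙_ (Over (Spec (CommRingCat.of k))) ⟶ Q).left :=
      hker.map (Over.forget _)
    exact (IsHomeomorph.topologicalKrullDim_eq e.isoPullback.hom.homeomorph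
      e.isoPullback.hom.homeomorph.isHomeomorph).symm
  rw [h1, h2, h3, hdN, hq]
  exact_mod_cast Nat.lt_add_of_pos_right hd

end K405.DimLt
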